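import Groth.Prelude.Def_CurvBase
import Mathlib

/-!
Galois descent of morphisms along a finite Galois extension of the base field.
-/

set_option autoImplicit false
set_option linter.style.haveILetI false
set_option backward.isDefEq.respectTransparency false
universe u

namespace Groth.Agent.GalDescHom

open AlgebraicGeometry CategoryTheory CategoryTheory.Limits

variable {k K : Type u} [Field k] [Field K] [Algebra k K] [FiniteDimensional k K] [IsGalois k K]

/-- Two maps of `K` into a ring agree, locally, up to a Galois automorphism. -/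
theorem exists_local_galois {R : Type u} [CommRing R] [Algebra k R] (α β : K →ₐ[k] R) (p : Ideal R)
    [p.IsPrime] : ∃ (σ : K ≃ₐ[k] K) (e : R), e ∉ p ∧ ∀ x, e * (β x - α (σ x)) = 0 := by
  classical
  obtain ⟨θ, hθ⟩ := Field.exists_primitive_element k K
  have hθi : IsIntegral k θ := Algebra.IsIntegral.isIntegral θ
  let f := (minpoly k θ).map (algebraMap k K)
  have hsplit : f.Splits := IsGalois.splits k θ
  have hmonic : f.Monic := (minpoly.monic hθi).map _
  have hnd : f.roots.Nodup :=
    Polynomial.nodup_roots (Polynomial.Separable.map (IsGalois.separable k θ : IsSeparable k θ))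
  let S := f.roots.toFinset
  have hprod : f = ∏ r ∈ S, (Polynomial.X - Polynomial.C r) := by
    conv_lhs => rw [hsplit.eq_prod_roots_of_monic hmonic]
    rw [Finset.prod_eq_multiset_prod]
    congr 2
    exact (Multiset.dedup_eq_self.mpr hnd).symm
  let u : K → R := fun r => β θ - α r
  have h0 : ∏ r ∈ S, u r = 0 := by
    have := congrArg (Polynomial.eval₂ (α : K →+* R) (β θ)) hprod
    rw [Polynomial.eval₂_finsetProd] at this
    simp only [Polynomial.eval₂_sub, Polynomial.eval₂_X, Polynomial.eval₂_C] at this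
    refine this.symm.trans ?_
    rw [Polynomial.eval₂_map, AlgHom.comp_algebraMap, ← Polynomial.aeval_def, Polynomial.aeval_algHom_apply,
      minpoly.aeval, map_zero]
  obtain ⟨r, hr, hrp⟩ := (Ideal.IsPrime.prod_mem_iff).mp (show ∏ r ∈ S, u r ∈ p by rw [h0]; exact p.zero_mem)
  have hroot : Polynomial.aeval r (minpoly k θ) = 0 := by
    have := (Polynomial.mem_roots hmonic.ne_zero).mp (Multiset.mem_toFinset.mp hr)
    rwa [Polynomial.IsRoot, Polynomial.eval_map, ← Polynomial.aeval_def] at this
  obtain ⟨σ, hσ⟩ := minpoly.exists_algEquiv_of_root' (Algebra.IsAlgebraic.isAlgebraic θ) hroot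
  refine ⟨σ, ∏ r' ∈ S.erase r, u r', ?_, ?_⟩
  · intro he
    obtain ⟨r', hr', hr'p⟩ := (Ideal.IsPrime.prod_mem_iff).mp he
    have hne : r - r' ≠ 0 := sub_ne_zero.mpr fun h => Finset.ne_of_mem_erase hr' h.symm
    have hu : IsUnit (α (r - r')) := (IsUnit.mk0 _ hne).map α
    refine Ideal.IsPrime.ne_top ‹_› (p.eq_top_of_isUnit_mem ?_ hu)
    have : α (r - r') = u r' - u r := by simp [u]
    rw [this]; exact p.sub_mem hr'p hrp
  · intro x
    have hx : x ∈ Algebra.adjoin k {θ} := by
      rw [← IntermediateField.adjoin_simple_toSubalgebra_of_isAlgebraic (Algebra.IsAlgebraic.isAlgebraic θ), hθ]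
      trivial
    have hθ0 : (∏ r' ∈ S.erase r, u r') * (β θ - α (σ θ)) = 0 := by
      rw [hσ, show β θ - α r = u r from rfl, Finset.prod_erase_mul _ _ hr, h0]
    induction hx using Algebra.adjoin_induction with
    | mem x hx => rw [Set.mem_singleton_iff.mp hx]; exact hθ0
    | algebraMap c => simp
    | add x y _ _ hx hy =>
        rw [map_add, map_add, map_add]
        linear_combination hx + hy
    | mul x y _ _ hx hy =>
        rw [map_mul, map_mul, map_mul]
        linear_combination (β y) * hx + α (σ x) * hy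

variable (k K) in
theorem exists_desc {X Y : Scheme.{u}} [X.Over (Spec (CommRingCat.of k))]
    [Y.Over (Spec (CommRingCat.of k))] (h : Curv2.bc k X K ⟶ Y)
    (hover : h ≫ (Y ↘ Spec (CommRingCat.of k)) = Curv2.bcFst k X K ≫ (X ↘ Spec (CommRingCat.of k)))
    (σact : (K ≃ₐ[k] K) → (Curv2.bc k X K ⟶ Curv2.bc k X K))
    (hfst : ∀ σ, σact σ ≫ Curv2.bcFst k X K = Curv2.bcFst k X K)
    (hsnd : ∀ σ : K ≃ₐ[k] K, σact σ ≫ pullback.snd _ _ =
      pullback.snd _ _ ≫ Spec.map (CommRingCat.ofHom (σ : K →ₐ[k] K).toRingHom))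
    (hinv : ∀ σ, σact σ ≫ h = h) :
    ∃ f : X ⟶ Y, f ≫ (Y ↘ Spec (CommRingCat.of k)) = X ↘ Spec (CommRingCat.of k) ∧
      Curv2.bcFst k X K ≫ f = h := by
  let π := Curv2.bcFst k X K
  haveI : IsFinite (Spec.map (CommRingCat.ofHom (algebraMap k K))) :=
    (IsFinite.SpecMap_iff _).mpr (RingHom.finite_algebraMap.mpr inferInstance)
  haveI : Flat (Spec.map (CommRingCat.ofHom (algebraMap k K))) :=
    Flat.SpecMap_iff.mpr (RingHom.flat_algebraMap_iff.mpr inferInstance)
  haveI : Surjective (Spec.map (CommRingCat.ofHom (algebraMap k K))) :=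
    ⟨fun x => ⟨(⊥ : PrimeSpectrum K), Subsingleton.elim _ _⟩⟩
  haveI : IsFinite π := MorphismProperty.pullback_fst _ _ inferInstance
  haveI : Flat π := MorphismProperty.pullback_fst _ _ inferInstance
  haveI : Surjective π := MorphismProperty.pullback_fst _ _ inferInstance
  have hdesc : ∀ {T : Scheme.{u}} (a b : T ⟶ Curv2.bc k X K), a ≫ π = b ≫ π → a ≫ h = b ≫ h := by
    intro T a b hab
    let ar : K →+* Γ(T, ⊤) := ((Scheme.ΓSpecIso (CommRingCat.of K)).inv ≫ (a ≫ pullback.snd _ _).appTop).hom
    let br : K →+* Γ(T, ⊤) := ((Scheme.ΓSpecIso (CommRingCat.of K)).inv ≫ (b ≫ pullback.snd _ _).appTop).hom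
    letI : Algebra k Γ(T, ⊤) := (ar.comp (algebraMap k K)).toAlgebra
    have hbr : br.comp (algebraMap k K) = ar.comp (algebraMap k K) := by
      have key : ∀ c : T ⟶ Curv2.bc k X K,
          CommRingCat.ofHom (algebraMap k K) ≫ (Scheme.ΓSpecIso (CommRingCat.of K)).inv ≫ (c ≫ pullback.snd _ _).appTop =
            (Scheme.ΓSpecIso (CommRingCat.of k)).inv ≫
              (c ≫ π ≫ (X ↘ Spec (CommRingCat.of k))).appTop := fun c => by
        rw [pullback.condition, Scheme.ΓSpecIso_inv_naturality_assoc, ← Category.assoc c,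
          Scheme.Hom.comp_appTop (c ≫ _)]
      have h1 := key b
      rw [← reassoc_of% hab, ← key a] at h1
      exact congrArg CommRingCat.Hom.hom h1
    let α : K →ₐ[k] Γ(T, ⊤) := { ar with commutes' := fun c => rfl }
    let β : K →ₐ[k] Γ(T, ⊤) := { br with commutes' := fun c => RingHom.congr_fun hbr c }
    have hloc : ∀ t : T, ∃ V : T.Opens, t ∈ V ∧ V.ι ≫ a ≫ h = V.ι ≫ b ≫ h := fun t => by
      haveI := RingHom.ker_isPrime (T.Γevaluation t).hom
      obtain ⟨σ, e, he, hx⟩ := exists_local_galois α β (RingHom.ker (T.Γevaluation t).hom)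
      refine ⟨T.basicOpen e, (Scheme.evaluation_ne_zero_iff_mem_basicOpen T t (show t ∈ (⊤ : T.Opens) from trivial) e).mp he, ?_⟩
      have key : (T.basicOpen e).ι ≫ b = (T.basicOpen e).ι ≫ a ≫ σact σ := by
        apply pullback.hom_ext
        · simp only [Category.assoc]
          rw [show σact σ ≫ pullback.fst _ _ = pullback.fst _ _ from hfst σ]
          exact congrArg ((T.basicOpen e).ι ≫ ·) hab.symm
        · simp only [Category.assoc, hsnd σ]
          apply ext_of_isAffine
          apply (cancel_epi (Scheme.ΓSpecIso (CommRingCat.of K)).inv).1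
          refine CommRingCat.hom_ext (RingHom.ext fun x => ?_)
          rw [Scheme.Hom.comp_appTop (T.basicOpen e).ι (b ≫ _), Scheme.Hom.comp_appTop (T.basicOpen e).ι,
            ← Category.assoc a, Scheme.Hom.comp_appTop (a ≫ _)]
          simp only [Category.assoc]
          rw [← Scheme.ΓSpecIso_inv_naturality_assoc]
          show (T.basicOpen e).ι.appTop (β x) = (T.basicOpen e).ι.appTop (α (σ x))
          have := congrArg (T.basicOpen e).ι.appTop (hx x)
          rw [map_mul, map_zero, map_sub] at this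
          have hu : IsUnit ((T.basicOpen e).ι.appTop e) := by
            have h2 := (T.toRingedSpace.isUnit_res_basicOpen e).map
              (T.presheaf.map (homOfLE (show (T.basicOpen e).ι ''ᵁ ⊤ ≤ T.basicOpen e by simp)).op).hom
            rw [Scheme.Opens.ι_appTop]
            convert! h2 using 1
            erw [← CommRingCat.comp_apply, ← T.presheaf.map_comp]
            rfl
          exact sub_eq_zero.mp (hu.mul_right_eq_zero.mp this)
      rw [reassoc_of% key, hinv]
    refine Scheme.hom_ext_of_forall _ _ fun t => ?_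
    obtain ⟨V, htV, hV⟩ := hloc t
    exact ⟨V, htV, hV⟩
  let f := EffectiveEpi.desc π h hdesc
  have hf : π ≫ f = h := EffectiveEpi.fac _ _ _
  refine ⟨f, ?_, hf⟩
  rw [← cancel_epi π, reassoc_of% hf]
  exact hover

end Groth.Agent.GalDescHom
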